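import Groth.Agent.Lib.NodalRed10.Local
import Groth.Agent.Lib.GeomRed21.Algebra
import Groth.Agent.Lib.OrbitTop19.Smooth
import Groth.Agent.Lib.AssPts11.Basic
import Mathlib.AlgebraicGeometry.AlgClosed.Basic
import Mathlib.FieldTheory.IsAlgClosed.AlgebraicClosure
import Mathlib.FieldTheory.Normal.Basic

/-!
# Schemes at worst nodal are geometrically reduced
-/

set_option autoImplicit false
set_option linter.style.haveILetI false
set_option backward.isDefEq.respectTransparency false
set_option backward.isDefEq.respectTransparency.types false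

universe u

open CategoryTheory CategoryTheory.Limits AlgebraicGeometry TensorProduct

noncomputable section

namespace Groth.Agent.NodalRed10

/-- Reducedness can be checked at the closed points of a Jacobson scheme. -/
theorem isReduced_of_closedPoints {X : Scheme.{u}} [JacobsonSpace X]
    (h : ∀ x : X, IsClosed ({x} : Set X) → _root_.IsReduced (X.presheaf.stalk x)) : IsReduced X := by
  refine ⟨fun U => ⟨fun s hs => ?_⟩⟩
  refine TopCat.Presheaf.section_ext X.sheaf U s 0 fun x hx => ?_
  by_contra hne
  -- the germ is zero near every closed point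
  have hcl : ∀ (y : X) (hy : y ∈ U), IsClosed ({y} : Set X) →
      ∃ W : X.Opens, y ∈ W ∧ ∀ z ∈ W, ∀ hz : z ∈ U, X.presheaf.germ U z hz s = 0 := fun y hy hyc => by
    haveI := h y hyc
    have h0 : X.presheaf.germ U y hy s = 0 := (hs.map (X.presheaf.germ U y hy).hom).eq_zero
    obtain ⟨W, hyW, iU, iU', hW⟩ := X.presheaf.germ_eq y hy hy s 0 (h0.trans (map_zero _).symm)
    refine ⟨W, hyW, fun z hz hzU => ?_⟩
    rw [← X.presheaf.germ_res_apply iU z hz s]
    show (X.presheaf.germ W z hz).hom ((X.presheaf.map iU.op).hom s) = 0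
    rw [show (X.presheaf.map iU.op).hom s = (X.presheaf.map iU'.op).hom 0 from hW, map_zero, map_zero]
  let Z : Set X := {z | ∃ W : X.Opens, z ∈ W ∧ ∀ z' ∈ W, ∀ hz : z' ∈ U, X.presheaf.germ U z' hz s = 0}
  have hZ : IsOpen Z := isOpen_iff_forall_mem_open.2 fun z ⟨W, hzW, hW⟩ =>
    ⟨W, fun z' hz' => ⟨W, hz', hW⟩, W.isOpen, hzW⟩
  obtain ⟨y, ⟨⟨hyU, hyZ⟩, hyc⟩⟩ := nonempty_inter_closedPoints (Z := (U : Set X) ∩ Zᶜ)
    ⟨x, hx, fun ⟨W, hxW, hW⟩ => hne ((hW x hxW hx).trans (map_zero _).symm)⟩
    (U.isOpen.isLocallyClosed.inter hZ.isClosed_compl.isLocallyClosed)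
  exact hyZ (hcl y hyU hyc)

variable {k : Type u} [Field k]

/-- Geometric reducedness from the algebraic closure. -/
theorem geometricallyReduced_of_isReduced_bc {X : Scheme.{u}} (f : X ⟶ Spec (CommRingCat.of k))
    [IsReduced (pullback f (Spec.map (CommRingCat.ofHom (algebraMap k (AlgebraicClosure k)))))] :
    GeometricallyReduced f := by
  refine ⟨fun K _ y W fst snd hpb => ?_⟩
  suffices IsReduced (pullback f y) from isReduced_of_isOpenImmersion hpb.isoPullback.hom
  apply +allowSynthFailures @IsReduced.of_openCover (𝒰 := Scheme.Pullback.openCoverOfLeft X.affineCover f y)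
  intro i
  show IsReduced (pullback (X.affineCover.f i ≫ f) y)
  let a := X.affineCover.f i
  let A := Γ(X.affineCover.X i, ⊤)
  letI : Algebra k A := (Spec.preimage ((X.affineCover.X i).isoSpec.inv ≫ a ≫ f)).hom.toAlgebra
  have hA : (X.affineCover.X i).isoSpec.hom ≫ Spec.map (CommRingCat.ofHom (algebraMap k A)) = a ≫ f := by
    rw [show Spec.map (CommRingCat.ofHom (algebraMap k A)) = (X.affineCover.X i).isoSpec.inv ≫ a ≫ f from
      Spec.map_preimage _, Iso.hom_inv_id_assoc]
  have hiso : ∀ (L : Type u) [Field L] [Algebra k L],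
      Nonempty (pullback (a ≫ f) (Spec.map (CommRingCat.ofHom (algebraMap k L))) ≅ Spec (CommRingCat.of (A ⊗[k] L))) :=
    fun L _ _ => ⟨asIso (pullback.map _ _ (Spec.map (CommRingCat.ofHom (algebraMap k A)))
      (Spec.map (CommRingCat.ofHom (algebraMap k L))) (X.affineCover.X i).isoSpec.hom (𝟙 _) (𝟙 _)
      (by simp [hA]) (by simp)) ≪≫ pullbackSpecIso k A L⟩
  haveI : Algebra.IsGeometricallyReduced k A := by
    obtain ⟨e⟩ := hiso (AlgebraicClosure k)
    let g : pullback (a ≫ f) (Spec.map (CommRingCat.ofHom (algebraMap k (AlgebraicClosure k)))) ⟶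
        pullback f (Spec.map (CommRingCat.ofHom (algebraMap k (AlgebraicClosure k)))) :=
      pullback.map _ _ _ _ a (𝟙 _) (𝟙 _) (by simp) (by simp)
    haveI : IsOpenImmersion g := inferInstance
    haveI := isReduced_of_isOpenImmersion g
    haveI := isReduced_of_isOpenImmersion e.inv
    haveI : _root_.IsReduced (A ⊗[k] AlgebraicClosure k) :=
      (affine_isReduced_iff (CommRingCat.of (A ⊗[k] AlgebraicClosure k))).1 inferInstance
    rw [Algebra.isGeometricallyReduced_field_iff]
    exact isReduced_of_injective (Algebra.TensorProduct.comm k (AlgebraicClosure k) A)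
      (Algebra.TensorProduct.comm k (AlgebraicClosure k) A).injective
  letI : Algebra k K := (Spec.preimage y).hom.toAlgebra
  have hK : Spec.map (CommRingCat.ofHom (algebraMap k K)) = y := Spec.map_preimage _
  haveI := GeomRed21.isReduced_tensor_field' (k := k) A K
  obtain ⟨e⟩ := hiso K
  rw [← hK]
  exact isReduced_of_isOpenImmersion e.hom

/-- At worst nodal schemes are geometrically reduced. -/
theorem geometricallyReduced_of_atWorstNodal (X : Scheme.{u}) [X.Over (Spec (CommRingCat.of k))]
    [LocallyOfFiniteType (X ↘ Spec (CommRingCat.of k))] (hX : Curv2.AtWorstNodal k X) :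
    GeometricallyReduced (X ↘ Spec (CommRingCat.of k)) := by
  let L := AlgebraicClosure k
  let f := X ↘ Spec (CommRingCat.of k)
  let σ := Spec.map (CommRingCat.ofHom (algebraMap k L))
  suffices IsReduced (pullback f σ) from geometricallyReduced_of_isReduced_bc f
  let Xb := pullback f σ
  let p := pullback.fst f σ
  let q := pullback.snd f σ
  haveI : JacobsonSpace Xb := LocallyOfFiniteType.jacobsonSpace q
  haveI : IsLocallyNoetherian Xb := LocallyOfFiniteType.isLocallyNoetherian q
  refine isReduced_of_closedPoints fun xb hxb => ?_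
  haveI : IsIntegralHom p := MorphismProperty.pullback_fst _ _ (by
    rw [IsIntegralHom.SpecMap_iff]
    exact Algebra.IsIntegral.isIntegral)
  have hxc : IsClosed ({p xb} : Set X) := by
    rw [← Set.image_singleton]
    exact p.isClosedMap _ hxb
  rcases hX _ hxc with ⟨U, hxU, hU⟩ | ⟨-, xb', hxb', hnode⟩
  · haveI := hU
    let V := p ⁻¹ᵁ U
    haveI : Smooth (V.ι ≫ q) := by
      have hpb : IsPullback (p ∣_ U) (V.ι ≫ q) (U.ι ≫ f) σ :=
        (isPullback_morphismRestrict p U).paste_vert (IsPullback.of_hasPullback f σ)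
      exact MorphismProperty.of_isPullback hpb inferInstance
    haveI := OrbitTop19.isReduced_of_smooth (k := L) (V.ι ≫ q)
    haveI : _root_.IsReduced (V.toScheme.presheaf.stalk ⟨xb, hxU⟩) := inferInstance
    exact isReduced_of_injective (V.stalkIso ⟨xb, hxU⟩).inv.hom
      (ConcreteCategory.bijective_of_isIso (V.stalkIso ⟨xb, hxU⟩).inv).1
  · have hxbc' : IsClosed ({xb'} : Set Xb) := by
      have hd : ({xb'} : Set Xb) = closure {xb'} := by
        refine subset_antisymm subset_closure fun z hz => ?_
        have hp : p z = p xb' := by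
          have := (specializes_iff_mem_closure.2 hz).map p.continuous
          rw [show p xb' = p xb from hxb'] at this ⊢
          exact this.mem_closed hxc rfl
        exact Set.mem_singleton_iff.2 (AssPts11.eq_of_specializes_of_isIntegralHom p (specializes_iff_mem_closure.2 hz) hp.symm)
      rw [hd]; exact isClosed_closure
    letI := Curv2.stalkAlgebra L Xb xb'
    haveI := isReduced_of_isOrdDoublePt (K := L) (A := Xb.presheaf.stalk xb') hnode
    -- conjugate points
    obtain ⟨τ, hτ⟩ : ∃ τ : Xb ⟶ Xb, IsIso τ ∧ τ xb = xb' := by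
      let P := pointOfClosedPoint q xb hxb
      let P' := pointOfClosedPoint q xb' hxbc'
      let x := p xb
      let pt : Spec (CommRingCat.of L) := IsLocalRing.closedPoint L
      obtain ⟨g, hg, -⟩ : ∃ g : X.residueField x ⟶ CommRingCat.of L, Spec.map g ≫ X.fromSpecResidueField x = P ≫ p ∧ True := by
        let e := (Scheme.SpecToEquivOfField L X) (P ≫ p)
        refine ⟨(X.residueFieldCongr (show e.1 = x from ?_)).inv ≫ e.2, ?_, trivial⟩
        · show (P ≫ p) pt = x
          rw [Scheme.Hom.comp_apply, pointOfClosedPoint_apply]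
        · rw [Spec.map_comp, Category.assoc, Scheme.residueFieldCongr_inv, Scheme.residueFieldCongr_fromSpecResidueField]
          exact (Scheme.SpecToEquivOfField L X).symm_apply_apply (P ≫ p)
      obtain ⟨g', hg', -⟩ : ∃ g : X.residueField x ⟶ CommRingCat.of L, Spec.map g ≫ X.fromSpecResidueField x = P' ≫ p ∧ True := by
        let e := (Scheme.SpecToEquivOfField L X) (P' ≫ p)
        refine ⟨(X.residueFieldCongr (show e.1 = x from ?_)).inv ≫ e.2, ?_, trivial⟩
        · show (P' ≫ p) pt = x
          rw [Scheme.Hom.comp_apply, pointOfClosedPoint_apply]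
          exact hxb'
        · rw [Spec.map_comp, Category.assoc, Scheme.residueFieldCongr_inv, Scheme.residueFieldCongr_fromSpecResidueField]
          exact (Scheme.SpecToEquivOfField L X).symm_apply_apply (P' ≫ p)
      letI : Algebra k (X.residueField x) := (Spec.preimage (X.fromSpecResidueField x ≫ f)).hom.toAlgebra
      have hc : ∀ (P₀ : Spec (CommRingCat.of L) ⟶ Xb) (g₀ : X.residueField x ⟶ CommRingCat.of L), P₀ ≫ q = 𝟙 _ →
          Spec.map g₀ ≫ X.fromSpecResidueField x = P₀ ≫ p →
          ∀ a, g₀.hom (algebraMap k (X.residueField x) a) = algebraMap k L a := fun P₀ g₀ hq hg₀ a => by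
        have : Spec.preimage (X.fromSpecResidueField x ≫ f) ≫ g₀ = CommRingCat.ofHom (algebraMap k L) :=
          Spec.map_injective (by
            rw [Spec.map_comp, Spec.map_preimage, reassoc_of% hg₀, pullback.condition, reassoc_of% hq])
        exact congrArg (fun φ : CommRingCat.of k ⟶ CommRingCat.of L => φ.hom a) this
      let φ : X.residueField x →ₐ[k] L := { g.hom with commutes' := hc P g (pointOfClosedPoint_comp _ _ _) hg }
      let φ' : X.residueField x →ₐ[k] L := { g'.hom with commutes' := hc P' g' (pointOfClosedPoint_comp _ _ _) hg' }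
      let u : X.residueField x ≃ₐ[k] φ.fieldRange := AlgEquiv.ofInjectiveField φ
      let u' : X.residueField x ≃ₐ[k] φ'.fieldRange := AlgEquiv.ofInjectiveField φ'
      let e : φ'.fieldRange ≃ₐ[k] φ.fieldRange := u'.symm.trans u
      let ψ : L →ₐ[k] L := AlgHom.liftNormal e.toAlgHom L
      have hψ : ∀ a, ψ (φ' a) = φ a := fun a => by
        have h1 := AlgHom.liftNormal_commutes e.toAlgHom L (u' a)
        have h2 : e.toAlgHom (u' a) = u a := congrArg u (u'.symm_apply_apply a)
        rw [h2] at h1
        exact h1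
      let m : CommRingCat.of L ⟶ CommRingCat.of L := CommRingCat.ofHom ψ.toRingHom
      haveI : IsIso m := (ConcreteCategory.isIso_iff_bijective m).2 (Algebra.IsAlgebraic.algHom_bijective ψ)
      have hm : Spec.map m ≫ σ = σ := by
        rw [← Spec.map_comp]
        exact congrArg Spec.map (CommRingCat.hom_ext (RingHom.ext fun a => ψ.commutes a))
      haveI : IsIso (Spec.map m) := inferInstance
      let τ : Xb ⟶ Xb := pullback.map f σ f σ (𝟙 _) (Spec.map m) (𝟙 _) (by simp) (by rw [Category.comp_id, hm])
      refine ⟨τ, inferInstance, ?_⟩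
      have hR : P ≫ τ = Spec.map m ≫ P' := by
        apply pullback.hom_ext
        · show (P ≫ τ) ≫ p = (Spec.map m ≫ P') ≫ p
          rw [Category.assoc, pullback.lift_fst, Category.comp_id, ← hg, Category.assoc, ← hg', ← Spec.map_comp_assoc]
          congr 2
          exact CommRingCat.hom_ext (RingHom.ext fun a => (hψ a).symm)
        · show (P ≫ τ) ≫ q = (Spec.map m ≫ P') ≫ q
          rw [Category.assoc, pullback.lift_snd, reassoc_of% (pointOfClosedPoint_comp q xb hxb), Category.assoc,
            pointOfClosedPoint_comp, Category.comp_id]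
      have := congrArg (fun φ : Spec (CommRingCat.of L) ⟶ Xb => φ pt) hR
      simpa [P, P', pointOfClosedPoint_apply] using this
    obtain ⟨hτi, hτx⟩ := hτ
    subst hτx
    exact isReduced_of_injective (asIso (τ.stalkMap xb)).inv.hom
      (ConcreteCategory.bijective_of_isIso (asIso (τ.stalkMap xb)).inv).1

end Groth.Agent.NodalRed10
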