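import Mathlib.AlgebraicGeometry.Properties
import Mathlib.RingTheory.MvPowerSeries.NoZeroDivisors
import Mathlib.RingTheory.AdicCompletion.Noetherian
import Groth.Prelude.Def_CurvBase

/-!
# An ordinary double point has a reduced local ring
-/

set_option autoImplicit false
set_option backward.isDefEq.respectTransparency false
set_option backward.isDefEq.respectTransparency.types false

universe u

noncomputable section

namespace Groth.Agent.NodalRed10

open MvPowerSeries in
/-- A power series is a multiple of `X_s` iff it has no monomial free of `s`. -/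
theorem dvd_iff_coeff {σ : Type*} {R : Type*} [CommRing R] (s : σ) (φ : MvPowerSeries σ R) :
    X s ∣ φ ↔ ∀ m : σ →₀ ℕ, m s = 0 → coeff m φ = 0 := X_dvd_iff

open MvPowerSeries in
theorem dvd_of_pow_dvd {σ : Type*} [DecidableEq σ] {K : Type*} [Field K] (s : σ) {φ : MvPowerSeries σ K} {n : ℕ}
    (h : X s ∣ φ ^ n) : X s ∣ φ := by
  -- substitute zero for `X_s`
  let f : MvPowerSeries σ K → MvPowerSeries σ K := fun ψ m => if m s = 0 then coeff m ψ else 0
  have hf : ∀ ψ m, coeff m (f ψ) = if m s = 0 then coeff m ψ else 0 := fun ψ m => rfl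
  have hmul : ∀ a b, f (a * b) = f a * f b := fun a b => by
    ext m
    rw [hf, coeff_mul, coeff_mul]
    split_ifs with hm
    · refine Finset.sum_congr rfl fun p hp => ?_
      rw [Finset.mem_antidiagonal] at hp
      have h1 : p.1 s + p.2 s = 0 := by rw [← Finsupp.add_apply, hp, hm]
      rw [hf, hf, if_pos (by omega), if_pos (by omega)]
    · refine (Finset.sum_eq_zero fun p hp => ?_).symm
      rw [Finset.mem_antidiagonal] at hp
      have h1 : p.1 s ≠ 0 ∨ p.2 s ≠ 0 := by
        by_contra hc
        rw [not_or, not_ne_iff, not_ne_iff] at hc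
        exact hm (by rw [← hp, Finsupp.add_apply, hc.1, hc.2])
      rcases h1 with h1 | h1 <;> simp [hf, h1]
  have hzero : ∀ ψ, X s ∣ ψ ↔ f ψ = 0 := fun ψ => by
    rw [dvd_iff_coeff]
    constructor
    · intro hψ
      ext m
      rw [hf, map_zero]
      split_ifs with hm
      · exact hψ m hm
      · rfl
    · intro hψ m hm
      have := hf ψ m
      rwa [hψ, map_zero, if_pos hm, eq_comm] at this
  have hpow : ∀ k, f (φ ^ (k + 1)) = f φ ^ (k + 1) := fun k => by
    induction k with
    | zero => simp
    | succ k ih => rw [pow_succ, hmul, ih, ← pow_succ]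
  rw [hzero] at h ⊢
  rcases n with _ | n
  · have := congrArg (coeff (0 : σ →₀ ℕ)) h
    simp [hf] at this
  · rw [hpow] at h
    exact eq_zero_of_pow_eq_zero h

open MvPowerSeries in
theorem isReduced_quot_XY (K : Type*) [Field K] :
    IsReduced (MvPowerSeries (Fin 2) K ⧸ Ideal.span {(X 0 * X 1 : MvPowerSeries (Fin 2) K)}) := by
  classical
  refine ⟨fun x hx => ?_⟩
  obtain ⟨φ, rfl⟩ := Ideal.Quotient.mk_surjective x
  obtain ⟨n, hn⟩ := hx
  rw [← map_pow, Ideal.Quotient.eq_zero_iff_mem, Ideal.mem_span_singleton] at hn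
  rw [Ideal.Quotient.eq_zero_iff_mem, Ideal.mem_span_singleton]
  obtain ⟨a, rfl⟩ := dvd_of_pow_dvd 0 ((dvd_mul_right _ _).trans hn)
  have h1 : X 1 ∣ X 0 * a := dvd_of_pow_dvd 1 ((dvd_mul_left _ _).trans hn)
  refine mul_dvd_mul_left _ ?_
  rw [dvd_iff_coeff] at h1 ⊢
  intro m hm
  have := h1 (Finsupp.single 0 1 + m) (by simp [hm])
  rwa [X, coeff_add_monomial_mul, one_mul] at this

open AlgebraicGeometry in
/-- An ordinary double point is reduced. -/
theorem isReduced_of_isOrdDoublePt {K A : Type u} [Field K] [CommRing A] [IsLocalRing A] [IsNoetherianRing A]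
    [Algebra K A] (h : Curv2.IsOrdDoublePt K A) : _root_.IsReduced A := by
  obtain ⟨e, -⟩ := h
  haveI := isReduced_quot_XY K
  haveI : IsHausdorff (IsLocalRing.maximalIdeal A) A :=
    IsHausdorff.of_le_jacobson _ _ (IsLocalRing.maximalIdeal_le_jacobson _)
  exact isReduced_of_injective (e.toRingHom.comp (algebraMap A (AdicCompletion (IsLocalRing.maximalIdeal A) A)))
    (e.injective.comp fun a b hab => (AdicCompletion.of_inj (I := IsLocalRing.maximalIdeal A)).1 hab)

end Groth.Agent.NodalRed10
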